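import Mathlib
import Cfsg.Agent.Lib.Forms.DicksonList
import Cfsg.Agent.Lib.Forms.DicksonDihedral

/-!
The affine group `V ⋊ (2 × L₂(3^α))`, `V` the twisted tensor square of the natural module.
-/

set_option autoImplicit false

namespace ReeSpec2515

open Matrix Cfsg.Agent.Forms
open scoped MatrixGroups

variable {F : Type*} [Field F] [CharP F 3] [Fact (Nat.Prime 3)]

local notation "V" => Matrix (Fin 2) (Fin 2) F

/-- the twisted matrix, transposed -/
noncomputable def tw (X : V) : V := (X.map (frobenius F 3))ᵀ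

lemma tw_mul (X Y : V) : tw (X * Y) = tw Y * tw X := by
  rw [tw, tw, tw, Matrix.map_mul, transpose_mul]

lemma tw_one : tw (1 : V) = 1 := by
  rw [tw, Matrix.map_one _ (map_zero _) (map_one _), transpose_one]

/-- the linear part -/
noncomputable def op (e : F) (X : V) : Module.End F V :=
  e • (LinearMap.mulLeft F X * LinearMap.mulRight F (tw X))

lemma op_apply (e : F) (X v : V) : op e X v = e • (X * v * tw X) := by
  simp [op, mul_assoc]

lemma op_mul (e e' : F) (X Y : V) : op e X * op e' Y = op (e * e') (X * Y) := by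
  ext1 v
  simp [op_apply, Module.End.mul_apply, tw_mul, mul_assoc, smul_smul]
  rw [mul_comm e' e]

lemma op_one : op (1 : F) (1 : V) = 1 := by
  ext1 v
  simp [op_apply, tw_one]

lemma op_pow (e : F) (X : V) (k : ℕ) : op e X ^ k = op (e ^ k) (X ^ k) := by
  induction k with
  | zero => rw [pow_zero, pow_zero, pow_zero, op_one]
  | succ k ih => rw [pow_succ, ih, op_mul, ← pow_succ, ← pow_succ]

lemma op_neg (e : F) (X : V) : op e (-X) = op e X := by
  ext1 v
  rw [op_apply, op_apply, tw, tw, show (-X).map (frobenius F 3) = -(X.map (frobenius F 3)) from by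
    ext i j; simp [map_neg], transpose_neg]
  simp

lemma op_pi_one [Fintype F] {e : F} {X : SL(2, F)} (h : KleinPSL.pi F X = 1) :
    op e (X : V) = e • (1 : Module.End F V) := by
  rcases KleinPSL.pi_eq_one.1 h with rfl | rfl
  · ext1 v
    simp [op_apply, tw_one]
  · rw [Matrix.SpecialLinearGroup.coe_neg, op_neg]
    ext1 v
    simp [op_apply, tw_one]

variable (F) in
/-- the affine group -/
def aff : Subgroup (Equiv.Perm (Matrix (Fin 2) (Fin 2) F)) where
  carrier := {σ | ∃ (e : F) (X : SL(2, F)) (b : Matrix (Fin 2) (Fin 2) F), e * e = 1 ∧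
    ∀ v, σ v = op e (X : Matrix (Fin 2) (Fin 2) F) v + b}
  one_mem' := ⟨1, 1, 0, one_mul 1, fun v => by simp [op_one]⟩
  mul_mem' := by
    rintro σ τ ⟨e, X, b, he, hσ⟩ ⟨e', Y, c, he', hτ⟩
    refine ⟨e * e', X * Y, op e (X : V) c + b, by rw [mul_mul_mul_comm, he, he', one_mul], fun v => ?_⟩
    rw [Equiv.Perm.mul_apply, hτ, hσ, map_add, add_assoc, Matrix.SpecialLinearGroup.coe_mul, ← op_mul]
    rfl
  inv_mem' := by
    rintro σ ⟨e, X, b, he, hσ⟩
    refine ⟨e, X⁻¹, -(op e ((X⁻¹ : SL(2, F)) : V) b), he, fun v => ?_⟩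
    apply σ.injective
    rw [Equiv.Perm.inv_def, Equiv.apply_symm_apply, hσ, map_add, map_neg, ← Module.End.mul_apply,
      ← Module.End.mul_apply, op_mul, he, ← Matrix.SpecialLinearGroup.coe_mul, mul_inv_cancel,
      Matrix.SpecialLinearGroup.coe_one, op_one]
    simp

lemma pow_apply {σ : Equiv.Perm V} {T : Module.End F V} {b : V} (h : ∀ v, σ v = T v + b) (k : ℕ) (v : V) :
    (σ ^ k) v = (T ^ k) v + (∑ i ∈ Finset.range k, T ^ i) b := by
  induction k generalizing v with
  | zero => simp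
  | succ k ih =>
    rw [pow_succ' σ, Equiv.Perm.mul_apply, ih, h, pow_succ' T, Finset.sum_range_succ' (fun i => T ^ i),
      map_add, pow_zero]
    simp [← pow_succ', Finset.mul_sum, LinearMap.sum_apply, map_sum, add_assoc, pow_succ', Module.End.mul_apply]

lemma pow_eq_one {σ : Equiv.Perm V} {T : Module.End F V} {b : V} (h : ∀ v, σ v = T v + b) {k : ℕ}
    (hT : T ^ k = 1) (hS : (∑ i ∈ Finset.range k, T ^ i) b = 0) : σ ^ k = 1 := by
  ext1 v
  rw [pow_apply h, hT, hS]
  simp

lemma three_eq_zero : (3 : Module.End F V) = 0 := by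
  ext1 v
  have h : (3 : F) = 0 := CharP.cast_eq_zero F 3
  have : (3 : Module.End F V) v = (3 : F) • v := by
    simp [Module.End.ofNat_apply, ← Nat.cast_smul_eq_nsmul F]
  rw [this, h, zero_smul, LinearMap.zero_apply]

lemma sum_nine {T : Module.End F V} (h : T ^ 3 = 1) : ∑ i ∈ Finset.range 9, T ^ i = 0 := by
  have e : ∀ i, T ^ (3 + i) = T ^ i := fun i => by rw [pow_add, h, one_mul]
  calc ∑ i ∈ Finset.range 9, T ^ i = (1 + T + T ^ 2) * 3 := by
        simp only [Finset.sum_range_succ, Finset.sum_range_zero, pow_zero, pow_one, zero_add]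
        rw [h, show T ^ 4 = T from (e 1).trans (pow_one T), show T ^ 5 = T ^ 2 from e 2,
          show T ^ 6 = 1 from (e 3).trans h, show T ^ 7 = T from (e 4).trans ((e 1).trans (pow_one T)),
          show T ^ 8 = T ^ 2 from (e 5).trans (e 2)]
        noncomm_ring
    _ = 0 := by rw [three_eq_zero, mul_zero]

lemma sum_six {T : Module.End F V} (h : T ^ 3 = -1) : ∑ i ∈ Finset.range 6, T ^ i = 0 := by
  have e : ∀ i, T ^ (3 + i) = -T ^ i := fun i => by rw [pow_add, h]; ext1 v; simp [Module.End.mul_apply]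
  simp only [Finset.sum_range_succ, Finset.sum_range_zero, pow_zero, pow_one, zero_add]
  rw [h, show T ^ 4 = -T from (e 1).trans (by rw [pow_one]), show T ^ 5 = -T ^ 2 from e 2]
  abel

lemma sum_six' {T : Module.End F V} (h : T ^ 2 = 1) : ∑ i ∈ Finset.range 6, T ^ i = 0 := by
  calc ∑ i ∈ Finset.range 6, T ^ i = (1 + T) * 3 := by
        simp only [Finset.sum_range_succ, Finset.sum_range_zero, pow_zero, pow_one, zero_add]
        rw [show T ^ 3 = T by rw [pow_succ, h, one_mul],
          show T ^ 4 = 1 by rw [pow_mul T 2 2, h, one_pow],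
          show T ^ 5 = T by rw [pow_succ, pow_mul T 2 2, h, one_pow, one_mul], h]
        noncomm_ring
    _ = 0 := by rw [three_eq_zero, mul_zero]

/-- only small elements have fixed vectors -/
lemma fixed_small {Y : SL(2, F)} {v : V} (hv : v ≠ 0) (h : (Y : V) * v * tw (Y : V) = v) :
    Y ^ 12 = 1 := by
  set y := (Y : V) with hy
  set z := tw y with hz
  set t := y.trace with ht
  have hy2 : y * y = t • y - 1 := DicksonAction.sq_eq_trace Y
  have hz2 : z * z = (t ^ 3) • z - 1 := by
    rw [hz, ← tw_mul, hy2]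
    ext i j
    by_cases hij : i = j
    · subst hij
      simp [tw, frobenius_def, mul_pow, sub_pow_char]
    · simp [tw, frobenius_def, mul_pow, sub_pow_char, Matrix.one_apply_ne hij, Matrix.one_apply_ne (Ne.symm hij)]
  have hyv : y * v = t • v - v * z := by
    calc y * v = y * (y * v * z) := by rw [h]
      _ = (y * y) * v * z := by noncomm_ring
      _ = t • (y * v * z) - v * z := by rw [hy2]; simp [sub_mul]
      _ = t • v - v * z := by rw [h]
  have hvz : v * z = t • v - y * v := by rw [hyv]; abel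
  have h2 : (y * y) * v * (z * z) = v := by
    calc (y * y) * v * (z * z) = y * (y * v * z) * z := by noncomm_ring
      _ = v := by rw [h, h]
  rw [hy2, hz2] at h2
  simp only [sub_mul, mul_sub, one_mul, mul_one, Matrix.smul_mul, Matrix.mul_smul] at h2
  rw [h, hvz] at h2
  have h3 : (t ^ 3 - t) • (y * v) = 0 := by
    linear_combination (norm := module) h2
  have hyv0 : y * v ≠ 0 := by
    intro e
    apply hv
    rw [← h, e, zero_mul]
  have h4 : t ^ 3 - t = 0 := by
    rcases smul_eq_zero.1 h3 with h5 | h5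
    · exact h5
    · exact absurd h5 hyv0
  have h5 : t * ((t - 1) * (t + 1)) = 0 := by linear_combination h4
  refine Subtype.ext ?_
  rw [Matrix.SpecialLinearGroup.coe_pow, Matrix.SpecialLinearGroup.coe_one, ← hy]
  rcases mul_eq_zero.1 h5 with h6 | h6
  · rw [h6, zero_smul, zero_sub] at hy2
    rw [show 12 = 2 * 6 from rfl, pow_mul, pow_two, hy2]
    exact Even.neg_one_pow ⟨3, rfl⟩
  rcases mul_eq_zero.1 h6 with h7 | h7
  · rw [show t = 1 by linear_combination h7, one_smul] at hy2
    have h8 : y ^ 3 = -1 := by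
      rw [pow_succ', pow_two, hy2, mul_sub, mul_one, hy2]; abel
    rw [show 12 = 3 * 4 from rfl, pow_mul, h8]
    exact Even.neg_one_pow ⟨2, rfl⟩
  · rw [show t = -1 by linear_combination h7, neg_one_smul] at hy2
    have h8 : y ^ 3 = 1 := by
      rw [pow_succ', pow_two, hy2, mul_sub, mul_neg, mul_one, hy2]; abel
    rw [show 12 = 3 * 4 from rfl, pow_mul, h8, one_pow]

/-- the kernel of the representation -/
lemma pi_eq_one_of_op [Fintype F] {W : SL(2, F)} (h : op (1 : F) (W : V) = 1) : KleinPSL.pi F W = 1 := by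
  have key : ∀ v : V, (W : V) * v * tw (W : V) = v := fun v => by
    have := LinearMap.congr_fun h v
    simpa [op_apply] using this
  have h00 := congrFun (congrFun (key !![1, 0; 0, 0]) 0) 0
  have h10 := congrFun (congrFun (key !![1, 0; 0, 0]) 1) 0
  have h11 := congrFun (congrFun (key !![0, 0; 0, 1]) 1) 1
  have h01 := congrFun (congrFun (key !![0, 0; 0, 1]) 0) 1
  have g01 := congrFun (congrFun (key !![0, 1; 0, 0]) 0) 1
  simp [tw, Matrix.mul_apply, Fin.sum_univ_two, frobenius_def, Matrix.vecMul, dotProduct] at h00 h10 h11 h01 g01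
  set a := (W : V) 0 0 with ha
  set b := (W : V) 0 1 with hb
  set c := (W : V) 1 0 with hc
  set d := (W : V) 1 1 with hd
  have ha0 : a ≠ 0 := fun e => by simp [e] at h00
  have hd0 : d ≠ 0 := fun e => by simp [e] at h11
  have hc0 : c = 0 := h10.resolve_right ha0
  have hb0 : b = 0 := h01.resolve_right hd0
  have hdet : a * d = 1 := by
    have := Matrix.SpecialLinearGroup.det_coe W
    rw [Matrix.det_fin_two, ← ha, ← hb, ← hc, ← hd, hb0, zero_mul, sub_zero] at this
    exact this
  have hdd : d * d = 1 := by linear_combination g01 - (d * d) * hdet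
  have had : a = d := by linear_combination d * hdet - a * hdd
  rw [KleinPSL.pi_eq_one]
  rcases mul_self_eq_one_iff.1 hdd with h1 | h1
  · left
    ext i j
    fin_cases i <;> fin_cases j <;> simp [← ha, ← hb, ← hc, ← hd, hb0, hc0, had, h1]
  · right
    ext i j
    fin_cases i <;> fin_cases j <;> simp [← ha, ← hb, ← hc, ← hd, hb0, hc0, had, h1]

variable [Fintype F]

lemma arith {q : ℕ} (α : ℕ) (hα : 3 ≤ α) (ho : Odd α) (hq : q = 3 ^ α) :
    q % 8 = 3 ∧ q % 3 = 0 ∧ 27 ≤ q := by
  obtain ⟨j, rfl⟩ := ho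
  subst hq
  refine ⟨?_, ?_, ?_⟩
  · rw [pow_succ, pow_mul, Nat.mul_mod, Nat.pow_mod]; norm_num
  · exact Nat.mod_eq_zero_of_dvd (dvd_pow_self 3 (by omega))
  · calc 27 = 3 ^ 3 := rfl
      _ ≤ 3 ^ (2 * j + 1) := Nat.pow_le_pow_right (by norm_num) hα

/-- element orders of the affine group -/
theorem orderOf_dvd {q : ℕ} (hF : Fintype.card F = q) (h8 : q % 8 = 3) (h3 : q % 3 = 0)
    {σ : Equiv.Perm V} (hσ : σ ∈ aff F) :
    orderOf σ ∣ 6 ∨ orderOf σ ∣ 9 ∨ orderOf σ ∣ q - 1 ∨ orderOf σ ∣ (q + 1) / 2 := by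
  classical
  obtain ⟨e, X, b, he, hσ⟩ := hσ
  set T := op e (X : V) with hT
  set g := KleinPSL.pi F X with hg
  have hTk : ∀ k : ℕ, g ^ k = 1 → T ^ k = (e ^ k) • (1 : Module.End F V) := fun k hk => by
    rw [hT, op_pow, ← Matrix.SpecialLinearGroup.coe_pow, op_pi_one]
    rw [map_pow, ← hg, hk]
  have heven : ∀ k : ℕ, Even k → e ^ k = 1 := by
    rintro k ⟨j, rfl⟩
    rw [pow_add, ← mul_pow, he, one_pow]
  have hB : g ^ 2 = 1 → orderOf σ ∣ 6 := fun hg2 => by
    have hT2 : T ^ 2 = 1 := by rw [hTk 2 hg2, heven 2 even_two, one_smul]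
    refine orderOf_dvd_of_pow_eq_one (pow_eq_one hσ ?_ ?_)
    · rw [show 6 = 2 * 3 from rfl, pow_mul, hT2, one_pow]
    · rw [sum_six' hT2, LinearMap.zero_apply]
  by_cases hdiv : 3 ∣ orderOf g
  · have hg3 : g ^ 3 = 1 := by
      have h := pow_orderOf_eq_one g
      rwa [(DicksonAction.twoPt (F := F) 3).orderOf_eq hdiv] at h
    have hT3 : T ^ 3 = e • (1 : Module.End F V) := by
      rw [hTk 3 hg3, pow_succ, pow_two, he, one_mul]
    rcases mul_self_eq_one_iff.1 he with h1 | h1
    · rw [h1, one_smul] at hT3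
      refine Or.inr (Or.inl (orderOf_dvd_of_pow_eq_one (pow_eq_one hσ ?_ ?_)))
      · rw [show 9 = 3 * 3 from rfl, pow_mul, hT3, one_pow]
      · rw [sum_nine hT3, LinearMap.zero_apply]
    · replace hT3 : T ^ 3 = -1 := by
        rw [hT3, h1]; ext1 v; simp
      refine Or.inl (orderOf_dvd_of_pow_eq_one (pow_eq_one hσ ?_ ?_))
      · rw [show 6 = 3 * 2 from rfl, pow_mul, hT3]
        ext1 v; simp [pow_two, Module.End.mul_apply]
      · rw [sum_six hT3, LinearMap.zero_apply]
  by_cases hg2 : g ^ 2 = 1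
  · exact Or.inl (hB hg2)
  have hord := DicksonList.order_dvd 3 g hdiv
  have hgcd : Nat.gcd 2 (Fintype.card F - 1) = 2 := Nat.gcd_eq_left (Nat.dvd_of_mod_eq_zero (by omega))
  rw [hgcd, hF] at hord
  have hinj : ∀ v : V, T v = v → v = 0 := by
    intro v hv
    by_contra hv0
    have h2 : (op e (X : V) * op e (X : V)) v = v := by
      rw [Module.End.mul_apply, ← hT, hv, hv]
    rw [op_mul, he, op_apply, one_smul, ← Matrix.SpecialLinearGroup.coe_mul] at h2
    have h12 := fixed_small hv0 h2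
    have h24 : g ^ 24 = 1 := by
      rw [show 24 = 2 * 12 from rfl, pow_mul, hg, ← map_pow, ← map_pow, pow_two, h12, map_one]
    apply hg2
    rw [← orderOf_dvd_iff_pow_eq_one]
    have hd := orderOf_dvd_of_pow_eq_one h24
    have hn3 : Nat.Coprime (orderOf g) 3 := ((Nat.prime_three.coprime_iff_not_dvd).2 hdiv).symm
    have h8' : orderOf g ∣ 8 := hn3.dvd_of_dvd_mul_right (show orderOf g ∣ 8 * 3 from hd)
    have hle := Nat.le_of_dvd (by norm_num) h8'
    by_contra h4
    have h44 : 4 ∣ orderOf g := by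
      interval_cases orderOf g <;> omega
    rcases hord with h | h <;> have := Nat.dvd_trans h44 h <;> omega
  have key : ∀ k : ℕ, Even k → g ^ k = 1 → σ ^ k = 1 := by
    intro k hk hgk
    have hT1 : T ^ k = 1 := by rw [hTk k hgk, heven k hk, one_smul]
    refine pow_eq_one hσ hT1 (hinj _ ?_)
    have h := LinearMap.congr_fun (mul_geom_sum T k) b
    rw [hT1, sub_self, LinearMap.zero_apply, Module.End.mul_apply, LinearMap.sub_apply,
      Module.End.one_apply, sub_eq_zero] at h
    exact h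
  rcases hord with h | h
  · exact Or.inr (Or.inr (Or.inr (orderOf_dvd_of_pow_eq_one
      (key _ (Nat.even_iff.2 (by omega)) (orderOf_dvd_iff_pow_eq_one.1 h)))))
  · refine Or.inr (Or.inr (Or.inl (orderOf_dvd_of_pow_eq_one
      (key _ (Nat.even_iff.2 (by omega)) (orderOf_dvd_iff_pow_eq_one.1 (h.trans ?_))))))
    exact ⟨2, by omega⟩

omit [Fintype F] in
/-- the affine map with given data -/
lemma exists_mem (e : F) (he : e * e = 1) (X : SL(2, F)) (b : V) :
    ∃ σ ∈ aff F, ∀ v, σ v = op e (X : V) v + b := by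
  have h1 : ∀ v, op e ((X⁻¹ : SL(2, F)) : V) (op e (X : V) v) = v := fun v => by
    rw [← Module.End.mul_apply, op_mul, he, ← Matrix.SpecialLinearGroup.coe_mul, inv_mul_cancel,
      Matrix.SpecialLinearGroup.coe_one, op_one, Module.End.one_apply]
  have h2 : ∀ v, op e (X : V) (op e ((X⁻¹ : SL(2, F)) : V) v) = v := fun v => by
    rw [← Module.End.mul_apply, op_mul, he, ← Matrix.SpecialLinearGroup.coe_mul, mul_inv_cancel,
      Matrix.SpecialLinearGroup.coe_one, op_one, Module.End.one_apply]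
  let σ : Equiv.Perm V :=
    { toFun := fun v => op e (X : V) v + b
      invFun := fun v => op e ((X⁻¹ : SL(2, F)) : V) (v - b)
      left_inv := fun v => by
        show op e ((X⁻¹ : SL(2, F)) : V) (op e (X : V) v + b - b) = v
        rw [add_sub_cancel_right, h1]
      right_inv := fun v => by
        show op e (X : V) (op e ((X⁻¹ : SL(2, F)) : V) (v - b)) + b = v
        rw [h2, sub_add_cancel] }
  exact ⟨σ, ⟨e, X, b, he, fun _ => rfl⟩, fun _ => rfl⟩

lemma exists_order_nine : ∃ σ ∈ aff F, orderOf σ = 9 := by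
  obtain ⟨σ, hm, hσ⟩ := exists_mem (1 : F) (one_mul 1) ⟨!![1, 1; 0, 1], by simp [det_fin_two]⟩ !![0, 0; 0, 1]
  replace hσ : ∀ v, σ v = op (1 : F) (!![1, 1; 0, 1] : V) v + !![0, 0; 0, 1] := hσ
  have h3 : (3 : F) = 0 := CharP.cast_eq_zero F 3
  have hp : (!![1, 1; 0, 1] : V) ^ 3 = 1 := by
    ext i j
    fin_cases i <;> fin_cases j <;> simp [pow_succ, Matrix.mul_apply, Fin.sum_univ_two]
    linear_combination h3
  have hT : op (1 : F) (!![1, 1; 0, 1] : V) ^ 3 = 1 := by rw [op_pow, one_pow, hp, op_one]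
  refine ⟨σ, hm, orderOf_eq_prime_pow (p := 3) (n := 1) ?_ (pow_eq_one hσ ?_ ?_)⟩
  · intro h
    have := pow_apply hσ 3 0
    rw [show 3 ^ 1 = 3 from rfl] at h
    rw [h, Equiv.Perm.one_apply, map_zero, zero_add] at this
    have hp2 : (!![1, 1; 0, 1] : V) ^ 2 = !![1, 2; 0, 1] := by
      ext i j
      fin_cases i <;> fin_cases j <;> simp [pow_two, Matrix.mul_apply, Fin.sum_univ_two, one_add_one_eq_two]
    have ht : ∀ c : F, tw (!![1, c; 0, 1] : V) = !![1, 0; c ^ 3, 1] := fun c => by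
      ext i j
      fin_cases i <;> fin_cases j <;> simp [tw, frobenius_def]
    simp only [Finset.sum_range_succ, Finset.sum_range_zero, zero_add, pow_zero, pow_one, LinearMap.add_apply,
      op_pow, one_pow, hp2, op_apply, one_smul, ht, tw_one, one_mul, mul_one] at this
    have := congrFun (congrFun this 0) 0
    simp [Matrix.mul_apply, Fin.sum_univ_two] at this
    have : (1 : F) = 0 := by linear_combination 6 * h3 + this
    exact one_ne_zero this
  · rw [show (3 : ℕ) ^ (1 + 1) = 3 * 3 from rfl, pow_mul, hT, one_pow]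
  · rw [show (3 : ℕ) ^ (1 + 1) = 9 from rfl, sum_nine hT, LinearMap.zero_apply]

lemma exists_order_six : ∃ σ ∈ aff F, orderOf σ = 6 := by
  obtain ⟨σ, hm, hσ⟩ := exists_mem (-1 : F) (by ring) ⟨!![1, 1; 0, 1], by simp [det_fin_two]⟩ 0
  replace hσ : ∀ v, σ v = op (-1 : F) (!![1, 1; 0, 1] : V) v + 0 := hσ
  have h3 : (3 : F) = 0 := CharP.cast_eq_zero F 3
  have hp : (!![1, 1; 0, 1] : V) ^ 3 = 1 := by
    ext i j
    fin_cases i <;> fin_cases j <;> simp [pow_succ, Matrix.mul_apply, Fin.sum_univ_two]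
    linear_combination h3
  have hT : op (-1 : F) (!![1, 1; 0, 1] : V) ^ 3 = -1 := by
    rw [op_pow, hp]
    ext1 v
    simp [op_apply, tw_one, pow_succ]
  have hk : ∀ k v, (σ ^ k) v = (op (-1 : F) (!![1, 1; 0, 1] : V) ^ k) v := fun k v => by
    rw [pow_apply hσ]; simp
  refine ⟨σ, hm, ?_⟩
  have h6 : orderOf σ ∣ 6 := orderOf_dvd_of_pow_eq_one (Equiv.ext fun v => by
    rw [hk, show 6 = 3 * 2 from rfl, pow_mul, hT]
    simp [pow_two, Module.End.mul_apply])
  have n3 : ¬ orderOf σ ∣ 3 := fun h => by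
    have := hk 3 !![0, 0; 0, 1]
    rw [orderOf_dvd_iff_pow_eq_one.1 h, hT] at this
    have h1 : (1 : F) = -1 := by simpa using congrFun (congrFun this 1) 1
    exact one_ne_zero (show (1 : F) = 0 by linear_combination h3 - h1)
  have n2 : ¬ orderOf σ ∣ 2 := fun h => by
    have := hk 2 !![0, 0; 0, 1]
    rw [orderOf_dvd_iff_pow_eq_one.1 h] at this
    have := congrFun (congrFun this 1) 0
    simp [op_apply, pow_two, op_mul, tw, Matrix.mul_apply, Fin.sum_univ_two, frobenius_def,
      Matrix.vecMul, dotProduct] at this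
    exact one_ne_zero (show (1 : F) = 0 by linear_combination 3 * h3 + this)
  have := Nat.le_of_dvd (by norm_num) h6
  interval_cases hh : orderOf σ <;> omega

lemma exists_order_pred {q : ℕ} (hF : Fintype.card F = q) (h8 : q % 8 = 3) :
    ∃ σ ∈ aff F, orderOf σ = q - 1 := by
  classical
  obtain ⟨ζ, hζ⟩ := IsCyclic.exists_generator (α := Fˣ)
  have hζo : orderOf ζ = q - 1 := by
    rw [orderOf_eq_card_of_forall_mem_zpowers hζ, Nat.card_units, Nat.card_eq_fintype_card, hF]
  obtain ⟨σ, hm, hσ⟩ := exists_mem (-1 : F) (by ring)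
    ⟨!![(ζ : F), 0; 0, ((ζ⁻¹ : Fˣ) : F)], by simp [det_fin_two]⟩ 0
  replace hσ : ∀ v, σ v = op (-1 : F) (!![(ζ : F), 0; 0, ((ζ⁻¹ : Fˣ) : F)] : V) v + 0 := hσ
  set D : V := !![(ζ : F), 0; 0, ((ζ⁻¹ : Fˣ) : F)] with hD
  have hDk : ∀ k : ℕ, D ^ k = !![((ζ ^ k : Fˣ) : F), 0; 0, (((ζ ^ k)⁻¹ : Fˣ) : F)] := by
    intro k
    induction k with
    | zero => simp [Matrix.one_fin_two]
    | succ k ih => rw [pow_succ, ih, hD]; simp [pow_succ, mul_comm]
  have hk : ∀ k v, (σ ^ k) v = op ((-1 : F) ^ k) (D ^ k) v := fun k v => by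
    rw [pow_apply hσ, ← op_pow]; simp
  refine ⟨σ, hm, Nat.dvd_antisymm (orderOf_dvd_of_pow_eq_one (Equiv.ext fun v => ?_)) ?_⟩
  · rw [hk, hDk, (Nat.even_iff.2 (by omega : (q - 1) % 2 = 0)).neg_one_pow, ← hζo, pow_orderOf_eq_one]
    simp [← Matrix.one_fin_two, op_one]
  · set k := orderOf σ with hkdef
    set a : F := ((ζ ^ k : Fˣ) : F) with hadef
    set a' : F := (((ζ ^ k)⁻¹ : Fˣ) : F) with ha'def
    have haa : a * a' = 1 := by rw [hadef, ha'def, ← Units.val_mul, mul_inv_cancel, Units.val_one]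
    have e1 := hk k !![1, 0; 0, 0]
    have e2 := hk k !![0, 1; 0, 0]
    rw [hkdef, pow_orderOf_eq_one, ← hkdef, hDk, ← hadef, ← ha'def] at e1 e2
    have f1 := congrFun (congrFun e1 0) 0
    have f2 := congrFun (congrFun e2 0) 1
    simp [op_apply, tw, Matrix.mul_apply, Fin.sum_univ_two, frobenius_def, Matrix.vecMul, dotProduct] at f1 f2
    have h6 : (a * a - 1) ^ 3 = 0 := by
      rw [sub_pow_char, one_pow]
      have h1 : a * a' ^ 3 = a * a ^ 3 := by
        have := f2.symm.trans f1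
        rcases neg_one_pow_eq_or F k with hs | hs <;> rw [hs] at this <;>
          first | linear_combination this | linear_combination -this
      linear_combination (-a ^ 2) * h1 + (1 + a * a' + a * a' * (a * a')) * haa
    have h2 : a * a = 1 := sub_eq_zero.1 (eq_zero_of_pow_eq_zero h6)
    have hs : (-1 : F) ^ k = 1 := by
      linear_combination -f1 - (-1 : F) ^ k * (a * a + 1) * h2
    have heven : Even k := by
      rcases Nat.even_or_odd k with h | h
      · exact h
      · rw [h.neg_one_pow] at hs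
        have h3 : (3 : F) = 0 := CharP.cast_eq_zero F 3
        exact absurd (show (1 : F) = 0 by linear_combination h3 + hs) one_ne_zero
    have h2k : q - 1 ∣ k + k := by
      rw [← hζo]
      refine orderOf_dvd_of_pow_eq_one (Units.ext ?_)
      rw [pow_add, Units.val_mul, ← hadef, h2, Units.val_one]
    obtain ⟨j, hj⟩ := heven
    have hcop : Nat.Coprime ((q - 1) / 2) 2 :=
      (Nat.prime_two.coprime_iff_not_dvd.2 (by omega)).symm
    have hq1 : q - 1 = 2 * ((q - 1) / 2) := by omega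
    rw [hq1, hj]
    have h4 : (q - 1) / 2 ∣ 2 * j := by
      rw [hq1, hj, show j + j + (j + j) = 2 * (2 * j) by ring] at h2k
      exact Nat.dvd_of_mul_dvd_mul_left (by norm_num) h2k
    have := hcop.dvd_of_dvd_mul_left h4
    rw [← two_mul]
    exact Nat.mul_dvd_mul_left 2 this

lemma exists_order_half {q : ℕ} (hF : Fintype.card F = q) (h8 : q % 8 = 3) :
    ∃ σ ∈ aff F, orderOf σ = (q + 1) / 2 := by
  classical
  obtain ⟨-, -, -, c, -, -, -, hc, -⟩ := DicksonDihedral.exists_plus (F := F)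
  have hgcd : Nat.gcd 2 (Fintype.card F - 1) = 2 := Nat.gcd_eq_left (Nat.dvd_of_mod_eq_zero (by omega))
  rw [hgcd, hF] at hc
  obtain ⟨X, rfl⟩ := KleinPSL.pi_surjective c
  obtain ⟨σ, hm, hσ⟩ := exists_mem (1 : F) (one_mul 1) X 0
  have hk : ∀ k v, (σ ^ k) v = op (1 : F) ((X ^ k : SL(2, F)) : V) v := fun k v => by
    rw [pow_apply hσ, op_pow, one_pow, Matrix.SpecialLinearGroup.coe_pow]; simp
  refine ⟨σ, hm, Nat.dvd_antisymm (orderOf_dvd_of_pow_eq_one (Equiv.ext fun v => ?_)) ?_⟩
  · rw [hk, op_pi_one (by rw [map_pow, ← hc, pow_orderOf_eq_one]), one_smul]; rfl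
  · rw [← hc]
    refine orderOf_dvd_of_pow_eq_one ?_
    rw [← map_pow]
    refine pi_eq_one_of_op (LinearMap.ext fun v => ?_)
    rw [← hk, pow_orderOf_eq_one]; rfl

end ReeSpec2515
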